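import Groth.Agent.CurveRamAC.Local
import Groth.Agent.S11332
import Groth.Agent.CurveFF.Base
import Groth.Agent.H23.FibreDegSum
import Groth.Agent.H23.FiniteFlatDeg
import Groth.Agent.TFCurvLib.ExtOne
import Groth.Agent.Synt29.OmegaStalk
import Groth.Agent.OmegaUniv.Unram

/-!
# Riemann–Hurwitz with ramification indices, over an algebraically closed field
-/

set_option autoImplicit false
set_option linter.style.haveILetI false
set_option linter.unusedSectionVars false
set_option backward.isDefEq.respectTransparency false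
set_option backward.isDefEq.respectTransparency.types false
set_option maxHeartbeats 800000

universe u

open CategoryTheory CategoryTheory.Limits AlgebraicGeometry TopologicalSpace IsLocalRing

noncomputable section

namespace Groth.Agent.CurveRamAC

attribute [local instance] Curv2.stalkAlgebra

/-- The ramification index at a point, as the length of its fibre. -/
def ram {X Y : Scheme.{u}} (f : X ⟶ Y) (x : X) : ℕ := (H23.FiniteFibreSum.fibreLen f x).toNat

section

variable {k : Type u} [Field k] [IsAlgClosed k] (X : Scheme.{u}) [X.Over (Spec (CommRingCat.of k))]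
  [SmoothOfRelativeDimension 1 (X ↘ Spec (CommRingCat.of k))]

/-- Residue fields of closed points are the ground field, differentials are free of rank one. -/
theorem stalk_facts {x : X} (hx' : IsClosed ({x} : Set X)) :
    (Function.Surjective fun c : k => residue (X.presheaf.stalk x) (algebraMap k (X.presheaf.stalk x) c)) ∧
      Module.Free (X.presheaf.stalk x) Ω[X.presheaf.stalk x⁄k] ∧
      Module.Finite (X.presheaf.stalk x) Ω[X.presheaf.stalk x⁄k] ∧
      Module.finrank (X.presheaf.stalk x) Ω[X.presheaf.stalk x⁄k] = 1 := by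
  let f := X ↘ Spec (CommRingCat.of k)
  obtain ⟨U, _, V, hV, hx, e, hf⟩ :=
    SmoothOfRelativeDimension.exists_isStandardSmoothOfRelativeDimension (n := 1) (f := f) x
  obtain rfl : U = ⊤ := top_unique fun y _ =>
    (@Subsingleton.elim (Spec (CommRingCat.of k)) (inferInstanceAs (Subsingleton (PrimeSpectrum k))) y (f x)).symm ▸ e hx
  letI : Algebra k Γ(X, V) := (SmoothReg.affMap f V).toAlgebra
  haveI : Algebra.IsStandardSmoothOfRelativeDimension 1 k Γ(X, V) :=
    (hf.comp (RingHom.IsStandardSmoothOfRelativeDimension.equiv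
      (Scheme.ΓSpecIso (CommRingCat.of k)).symm.commRingCatIsoToRingEquiv)).toAlgebra
  haveI : Algebra.IsStandardSmooth k Γ(X, V) :=
    Algebra.IsStandardSmoothOfRelativeDimension.isStandardSmooth 1
  haveI : Algebra.FiniteType k Γ(X, V) := inferInstance
  letI := X.presheaf.algebra_section_stalk ⟨x, hx⟩
  let m := (hV.primeIdealOf ⟨x, hx⟩).asIdeal
  haveI : IsLocalization.AtPrime (X.presheaf.stalk x) m := hV.isLocalization_stalk ⟨x, hx⟩
  haveI : m.IsMaximal := hV.primeIdealOf_isMaximal_of_isClosed ⟨x, hx⟩ hx'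
  haveI : IsScalarTower k Γ(X, V) (X.presheaf.stalk x) := IsScalarTower.of_algebraMap_eq fun c => by
    show X.presheaf.germ ⊤ _ _ _ = X.presheaf.germ V _ _ _
    exact (X.presheaf.germ_res_apply (homOfLE (le_top : V ≤ ⊤)) x hx _).symm
  haveI : Nontrivial Γ(X, V) := (X.presheaf.germ V x hx).hom.domain_nontrivial
  let b := Module.Free.chooseBasis Γ(X, V) Ω[Γ(X, V)⁄k]
  have h1 : Module.rank Γ(X, V) Ω[Γ(X, V)⁄k] = 1 := by
    rw [Algebra.IsStandardSmoothOfRelativeDimension.rank_kaehlerDifferential 1, Nat.cast_one]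
  let l := KaehlerDifferential.map k k Γ(X, V) (X.presheaf.stalk x)
  haveI : IsLocalizedModule m.primeCompl l := inferInstance
  let B := b.ofIsLocalizedModule (X.presheaf.stalk x) m.primeCompl l
  obtain ⟨_, ⟨i₀⟩⟩ := Cardinal.eq_one_iff_unique.1 (b.mk_eq_rank''.trans h1)
  letI : Unique (Module.Free.ChooseBasisIndex Γ(X, V) Ω[Γ(X, V)⁄k]) :=
    { default := i₀, uniq := fun a => Subsingleton.elim _ _ }
  refine ⟨fun z => ?_, Module.Free.of_basis B, Module.Finite.of_basis B, ?_⟩
  · letI := Ideal.Quotient.field m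
    haveI : Module.Finite k (Γ(X, V) ⧸ m) := finite_of_finite_type_of_isJacobsonRing k (Γ(X, V) ⧸ m)
    have hb := IsAlgClosed.algebraMap_bijective_of_isIntegral (k := k) (K := Γ(X, V) ⧸ m)
    obtain ⟨w, rfl⟩ := residue_surjective z
    obtain ⟨⟨a, s⟩, rfl⟩ := IsLocalization.mk'_surjective m.primeCompl w
    have key : ∀ a : Γ(X, V), ∃ c : k, residue (X.presheaf.stalk x) (algebraMap k _ c) =
        residue _ (algebraMap Γ(X, V) _ a) := fun a => by
      obtain ⟨c, hc⟩ := hb.2 (Ideal.Quotient.mk m a)
      refine ⟨c, Ideal.Quotient.eq.2 ?_⟩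
      rw [IsScalarTower.algebraMap_apply k Γ(X, V) (X.presheaf.stalk x), ← map_sub]
      exact (IsLocalization.AtPrime.to_map_mem_maximal_iff _ m _).2 (Ideal.Quotient.eq.1 hc)
    obtain ⟨ca, hca⟩ := key a
    obtain ⟨cs, hcs⟩ := key s
    have hs0 : residue (X.presheaf.stalk x) (algebraMap Γ(X, V) _ (s : Γ(X, V))) ≠ 0 := fun h =>
      s.2 ((IsLocalization.AtPrime.to_map_mem_maximal_iff _ m _).1 ((residue_eq_zero_iff _).1 h))
    refine ⟨ca / cs, mul_right_cancel₀ hs0 ?_⟩
    have hcs0 : cs ≠ 0 := by
      rintro rfl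
      exact hs0 (hcs.symm.trans (by rw [map_zero, map_zero]))
    dsimp only
    conv_rhs => rw [← map_mul, IsLocalization.mk'_spec, ← hca]
    rw [← hcs, ← map_mul, ← map_mul, div_mul_cancel₀ _ hcs0]
  · rw [Module.finrank_eq_card_basis B]
    exact Fintype.card_unique

variable (Y : Scheme.{u}) [Y.Over (Spec (CommRingCat.of k))]
  [SmoothOfRelativeDimension 1 (Y ↘ Spec (CommRingCat.of k))]

variable {X Y}

variable (f : X ⟶ Y) (hf : f ≫ (Y ↘ Spec (CommRingCat.of k)) = X ↘ Spec (CommRingCat.of k))

variable {x : X} [IsDomain (X.presheaf.stalk x)] [IsDiscreteValuationRing (X.presheaf.stalk x)]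
  [IsDomain (Y.presheaf.stalk (f x))] [IsDiscreteValuationRing (Y.presheaf.stalk (f x))]

omit [X.Over (Spec (CommRingCat.of k))] [Y.Over (Spec (CommRingCat.of k))] in
/-- The maximal ideal downstairs generates the power of the one upstairs given by the index. -/
theorem map_maximalIdeal_eq [Flat f] :
    (maximalIdeal (Y.presheaf.stalk (f x))).map (f.stalkMap x).hom = maximalIdeal (X.presheaf.stalk x) ^ ram f x := by
  letI := (f.stalkMap x).hom.toAlgebra
  haveI : Module.Flat (Y.presheaf.stalk (f x)) (X.presheaf.stalk x) := Flat.stalkMap f x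
  haveI : IsLocalHom (algebraMap (Y.presheaf.stalk (f x)) (X.presheaf.stalk x)) :=
    inferInstanceAs (IsLocalHom (f.stalkMap x).hom)
  haveI : Module.FaithfullyFlat (Y.presheaf.stalk (f x)) (X.presheaf.stalk x) :=
    Module.FaithfullyFlat.of_flat_of_isLocalHom
  obtain ⟨t, ht⟩ := IsDiscreteValuationRing.exists_irreducible (Y.presheaf.stalk (f x))
  obtain ⟨s, hs⟩ := IsDiscreteValuationRing.exists_irreducible (X.presheaf.stalk x)
  have hne : (maximalIdeal (Y.presheaf.stalk (f x))).map (f.stalkMap x).hom ≠ ⊥ := by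
    rw [ht.maximalIdeal_eq, Ideal.map_span, Set.image_singleton, ne_eq, Ideal.span_singleton_eq_bot]
    intro h
    exact ht.ne_zero (FaithfulSMul.algebraMap_injective (Y.presheaf.stalk (f x)) (X.presheaf.stalk x)
      (h.trans (map_zero _).symm))
  obtain ⟨n, hn⟩ := IsDiscreteValuationRing.ideal_eq_span_pow_irreducible hne hs
  have hram : ram f x = n := by
    show (Module.length (X.presheaf.stalk x) _).toNat = n
    rw [hn, length_quot_pow s hs.maximalIdeal_eq, ENat.toNat_natCast]
  rw [hram, hn, hs.maximalIdeal_eq, Ideal.span_singleton_pow]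

include hf in
/-- The stalk of the relative differentials in the tame case. -/
theorem finrank_stalk_omega [Flat f] [IsFinite f] (hx : IsClosed ({x} : Set X)) (hy : IsClosed ({f x} : Set Y))
    (he : (ram f x : k) ≠ 0) :
    letI := CurveCohLib.stalkModuleK k (Omega.sheaf f) x
    Module.length (X.presheaf.stalk x) ((Omega.sheaf f).presheaf.stalk x) = (ram f x - 1 : ℕ) ∧
      ∀ [Module.Finite k ((Omega.sheaf f).presheaf.stalk x)],
        Module.finrank k ((Omega.sheaf f).presheaf.stalk x) = ram f x - 1 := by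
  letI := (f.stalkMap x).hom.toAlgebra
  haveI : IsLocalHom (algebraMap (Y.presheaf.stalk (f x)) (X.presheaf.stalk x)) :=
    inferInstanceAs (IsLocalHom (f.stalkMap x).hom)
  haveI : IsScalarTower k (Y.presheaf.stalk (f x)) (X.presheaf.stalk x) :=
    IsScalarTower.of_algebraMap_eq fun c => by
      show X.presheaf.germ ⊤ x trivial ((X ↘ Spec (CommRingCat.of k)).appTop _) =
        f.stalkMap x (Y.presheaf.germ ⊤ (f x) trivial ((Y ↘ Spec (CommRingCat.of k)).appTop _))
      erw [Scheme.Hom.germ_stalkMap_apply]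
      rw [← hf]
      rfl
  obtain ⟨hSx, hfree, hfin, hrank⟩ := stalk_facts (k := k) X hx
  obtain ⟨hSy, -, -, -⟩ := stalk_facts (k := k) Y hy
  have hlen := length_kaehler (k := k) hrank hSy hSx (ram f x) (map_maximalIdeal_eq f) he
  haveI := Synt29.OmegaStalk.isIso_toStalk (OmegaUniv.isUniversal_dOmega f) x
  have eL := (asIso (Synt29.OmegaStalk.toStalk (OmegaSh.dOmega f) x)).toLinearEquiv
  have hlen' : Module.length (X.presheaf.stalk x) ((Omega.sheaf f).presheaf.stalk x) = (ram f x - 1 : ℕ) :=
    (eL.length_eq).symm.trans hlen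
  letI := CurveCohLib.stalkModuleK k (Omega.sheaf f) x
  refine ⟨hlen', fun {_} => ?_⟩
  haveI : IsScalarTower k (X.presheaf.stalk x) ((Omega.sheaf f).presheaf.stalk x) :=
    IsScalarTower.of_algebraMap_smul fun _ _ => rfl
  let eκ : k ≃ₐ[k] ResidueField (X.presheaf.stalk x) :=
    AlgEquiv.ofBijective (Algebra.ofId k (ResidueField (X.presheaf.stalk x)))
      ⟨(algebraMap k (ResidueField (X.presheaf.stalk x))).injective, fun z => by
        obtain ⟨c, hc⟩ := hSx z
        exact ⟨c, hc⟩⟩
  let χ : X.presheaf.stalk x →ₐ[k] k :=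
    eκ.symm.toAlgHom.comp
      (IsScalarTower.toAlgHom k (X.presheaf.stalk x) (ResidueField (X.presheaf.stalk x)))
  have h := TFCurvLib.length_eq_finrank χ (fun a ha => by
    by_contra hu
    refine ha ?_
    show eκ.symm (residue _ a) = 0
    rw [(residue_eq_zero_iff a).2 ((mem_maximalIdeal a).2 hu), map_zero]) ((Omega.sheaf f).presheaf.stalk x)
  rw [hlen'] at h
  exact_mod_cast h.symm

omit [IsDomain (X.presheaf.stalk x)] [IsDiscreteValuationRing (X.presheaf.stalk x)]
  [IsDomain (Y.presheaf.stalk (f x))] [IsDiscreteValuationRing (Y.presheaf.stalk (f x))] in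
include hf in
/-- Residue extensions at closed points are trivial. -/
theorem residueDegree_eq_one (hx : IsClosed ({x} : Set X)) : f.residueDegree x = 1 := by
  letI := (f.residueFieldMap x).hom.toAlgebra
  have hsurj : Function.Surjective (algebraMap (Y.residueField (f x)) (X.residueField x)) := fun z => by
    obtain ⟨c, hc⟩ := (stalk_facts (k := k) X hx).1 z
    refine ⟨residue (Y.presheaf.stalk (f x)) (algebraMap k (Y.presheaf.stalk (f x)) c), ?_⟩
    refine Eq.trans ?_ hc
    show residue (X.presheaf.stalk x) (f.stalkMap x (Y.presheaf.germ ⊤ (f x) trivial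
      ((Y ↘ Spec (CommRingCat.of k)).appTop ((Scheme.ΓSpecIso (CommRingCat.of k)).inv c)))) = _
    show _ = residue (X.presheaf.stalk x) (X.presheaf.germ ⊤ x trivial
      ((X ↘ Spec (CommRingCat.of k)).appTop ((Scheme.ΓSpecIso (CommRingCat.of k)).inv c)))
    erw [Scheme.Hom.germ_stalkMap_apply]
    rw [← hf]
    rfl
  show Module.finrank (Y.residueField (f x)) (X.residueField x) = 1
  exact (Algebra.finrank_eq_of_equiv_equiv (RingEquiv.refl (Y.residueField (f x)))
    (RingEquiv.ofBijective _ ⟨(algebraMap (Y.residueField (f x)) (X.residueField x)).injective, hsurj⟩)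
    (by ext z; rfl)).symm.trans (Module.finrank_self _)

end

section Hurwitz

variable {k : Type u} [Field k] [IsAlgClosed k] (X : Scheme.{u}) [X.Over (Spec (CommRingCat.of k))]
  [IsIntegral X] [IsProper (X ↘ Spec (CommRingCat.of k))] (hdX : topologicalKrullDim X = 1)
  [SmoothOfRelativeDimension 1 (X ↘ Spec (CommRingCat.of k))]
  (Y : Scheme.{u}) [Y.Over (Spec (CommRingCat.of k))]
  [IsIntegral Y] [IsProper (Y ↘ Spec (CommRingCat.of k))] (hdY : topologicalKrullDim Y = 1)
  [SmoothOfRelativeDimension 1 (Y ↘ Spec (CommRingCat.of k))]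
  (f : X ⟶ Y) [IsFinite f] (hf : f ≫ (Y ↘ Spec (CommRingCat.of k)) = X ↘ Spec (CommRingCat.of k))
  (e : f (genericPoint X) = genericPoint Y)

omit [Y.Over (Spec (CommRingCat.of k))] [IsProper (Y ↘ Spec (CommRingCat.of k))]
  [SmoothOfRelativeDimension 1 (Y ↘ Spec (CommRingCat.of k))] in
include hdY in
theorem not_isClosed_generic : ¬ IsClosed ({genericPoint Y} : Set Y) := fun hc => by
  have hu : ∀ a : Y, a = genericPoint Y := fun a =>
    ((genericPoint_spec Y).specializes (Set.mem_univ a)).mem_closed hc rfl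
  have : Subsingleton (IrreducibleCloseds Y) := ⟨fun A B => IrreducibleCloseds.ext
    (Set.ext fun a => ⟨fun _ => by obtain ⟨b, hb⟩ := B.2.1; rwa [hu a, ← hu b],
      fun _ => by obtain ⟨b, hb⟩ := A.2.1; rwa [hu a, ← hu b]⟩)⟩
  have h0 : topologicalKrullDim Y ≤ 0 := Order.krullDim_nonpos_iff_forall_isMax.2 fun A B _ =>
    (Subsingleton.elim B A).le
  rw [hdY] at h0
  exact absurd h0 (by decide)

include e hdY in
theorem isClosed_image {x : X} (hx : IsClosed ({x} : Set X)) : IsClosed ({f x} : Set Y) := by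
  have := f.isClosedMap _ hx
  rwa [Set.image_singleton] at this

include hdX hdY e hf in
/-- A finite map of smooth curves is flat. -/
theorem flat : Flat f := by
  haveI := CurveCohLib.isNoetherian_of_proper (k := k) (X := X)
  haveI := CurveCohLib.isNoetherian_of_proper (k := k) (X := Y)
  haveI : Smooth (Y ↘ Spec (CommRingCat.of k)) := SmoothOfRelativeDimension.smooth 1 _
  exact DimFormula.flat_of_regular_dim_le_one
    (fun y => ⟨GrpSchLib.isRegularLocalRing_stalk_of_smooth (Y ↘ Spec (CommRingCat.of k)) y,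
      (SchTop.ringKrullDim_stalk_le y).trans hdY.le⟩) f
    (fun η hη => by
      rw [← hη _ (genericPoint_specializes η)]
      exact e)

include hdX hdY e hf in
/-- The ramification indices in a fibre add up to the degree. -/
theorem sum_ram {y : Y} (hy : IsClosed ({y} : Set Y)) :
    (f ⁻¹' {y}).Finite ∧ ∑ᶠ x ∈ f ⁻¹' {y}, ram f x = f.residueDegree (genericPoint X) := by
  haveI := CurveCohLib.isNoetherian_of_proper (k := k) (X := X)
  haveI := CurveCohLib.isNoetherian_of_proper (k := k) (X := Y)
  haveI : Flat f := flat X hdX Y hdY f hf e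
  obtain ⟨h1, h2⟩ := H23.FiniteFibreSum.sum_finrank f y
  have hnc : ∀ x : X, f x = y → IsClosed ({x} : Set X) := fun x hx => by
    by_contra hc
    obtain rfl := CurveCohLib.eq_genericPoint_of_not_isClosed hdX hc
    rw [e] at hx
    subst hx
    exact not_isClosed_generic Y hdY hy
  refine ⟨h1, Eq.trans (finsum_mem_congr rfl fun x hx => ?_) (h2.trans ?_)⟩
  · show ram f x = _
    rw [residueDegree_eq_one f hf (hnc x hx), one_mul]
    rfl
  obtain ⟨h1', h2'⟩ := H23.FiniteFibreSum.sum_finrank f (genericPoint Y)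
  have hfib : f ⁻¹' {genericPoint Y} = {genericPoint X} := by
    refine Set.eq_singleton_iff_unique_mem.2 ⟨e, fun x hx => ?_⟩
    by_contra hne
    have hxc : IsClosed ({x} : Set X) := by
      by_contra hc
      exact hne (CurveCohLib.eq_genericPoint_of_not_isClosed hdX hc)
    have hyc := isClosed_image X Y hdY f e hxc
    rw [show f x = genericPoint Y from hx] at hyc
    exact not_isClosed_generic Y hdY hyc
  rw [hfib, finsum_mem_singleton] at h2'
  have hlen : ram f (genericPoint X) = 1 := by
    letI : Field (X.presheaf.stalk (genericPoint X)) := inferInstanceAs (Field X.functionField)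
    show (Module.length _ _).toNat = 1
    have hbot : Ideal.map (f.stalkMap (genericPoint X)).hom
        (maximalIdeal (Y.presheaf.stalk (f (genericPoint X)))) = ⊥ :=
      (Ideal.eq_bot_or_top _).resolve_right fun h => (maximalIdeal.isMaximal (X.presheaf.stalk (genericPoint X))).ne_top
        (top_le_iff.1 (h ▸ (((local_hom_TFAE (f.stalkMap (genericPoint X)).hom).out 0 2 rfl rfl).1 (inferInstanceAs (IsLocalHom (f.stalkMap (genericPoint X)).hom)))))
    rw [hbot, (Submodule.quotEquivOfEqBot ⊥ rfl).length_eq, Module.length_eq_one_iff.2 inferInstance,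
      ENat.toNat_one]
  have hloc : f.finrank y = f.finrank (genericPoint Y) :=
    (Scheme.Hom.isLocallyConstant_finrank f).apply_eq_of_preconnectedSpace _ _
  rw [hloc, ← h2']
  show _ * ram f (genericPoint X) = _
  rw [hlen, mul_one]

include hdX hdY e hf in
open Classical in
/-- Riemann–Hurwitz in the tame case. -/
theorem hurwitz
    (hsep : letI := ((Y.presheaf.stalkSpecializes (specializes_of_eq e) ≫ f.stalkMap (genericPoint X)).hom).toAlgebra
      Algebra.IsSeparable Y.functionField X.functionField)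
    (htame : ∀ x : X, IsClosed ({x} : Set X) → (ram f x : k) ≠ 0)
    (S : Finset X) (hS : ∀ x ∈ S, IsClosed ({x} : Set X))
    (hS' : ∀ x : X, IsClosed ({x} : Set X) → ram f x ≠ 1 → x ∈ S) :
    2 * (Curv2.genus k X : ℤ) - 2 =
      (f.residueDegree (genericPoint X) : ℤ) * (2 * (Curv2.genus k Y : ℤ) - 2) + ∑ x ∈ S, ((ram f x : ℤ) - 1) := by
  haveI := CurveCohLib.isNoetherian_of_proper (k := k) (X := X)
  haveI := CurveCohLib.isNoetherian_of_proper (k := k) (X := Y)
  haveI : Smooth (X ↘ Spec (CommRingCat.of k)) := SmoothOfRelativeDimension.smooth 1 _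
  haveI : Smooth (Y ↘ Spec (CommRingCat.of k)) := SmoothOfRelativeDimension.smooth 1 _
  haveI : Flat f := flat X hdX Y hdY f hf e
  rw [S11332.result k X hdX (fun x => GrpSchLib.isRegularLocalRing_stalk_of_smooth (X ↘ Spec (CommRingCat.of k)) x)
    Y hdY (fun y => GrpSchLib.isRegularLocalRing_stalk_of_smooth (Y ↘ Spec (CommRingCat.of k)) y) f hf e hsep]
  congr 1
  have hΩ : Coh.IsCoh (Omega.sheaf f) := ⟨OmegaUniv.isQCoh_omega f, OmegaUniv.isFT_omega f⟩
  have hη : genericPoint X ∉ CohB1.support (Omega.sheaf f) := fun h => by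
    refine h ?_
    letI := ((Y.presheaf.stalkSpecializes (specializes_of_eq e) ≫ f.stalkMap (genericPoint X)).hom).toAlgebra
    haveI : Algebra.IsSeparable Y.functionField X.functionField := hsep
    have hu : ((Y.presheaf.stalkSpecializes (specializes_of_eq e) ≫ f.stalkMap (genericPoint X)).hom).FormallyUnramified :=
      (Algebra.FormallyUnramified.of_isSeparable _ _ : Algebra.FormallyUnramified Y.functionField X.functionField)
    rw [CommRingCat.hom_comp] at hu
    haveI := Synt29.OmegaStalk.isIso_toStalk (OmegaUniv.isUniversal_dOmega f) (genericPoint X)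
    letI := (f.stalkMap (genericPoint X)).hom.toAlgebra
    haveI : Algebra.FormallyUnramified (Y.presheaf.stalk (f (genericPoint X))) (X.presheaf.stalk (genericPoint X)) :=
      RingHom.FormallyUnramified.of_comp hu
    haveI : Subsingleton (CommRingCat.KaehlerDifferential (f.stalkMap (genericPoint X))) :=
      Algebra.FormallyUnramified.subsingleton_kaehlerDifferential
    exact (asIso (Synt29.OmegaStalk.toStalk (OmegaSh.dOmega f) (genericPoint X))).toLinearEquiv.symm.toEquiv.subsingleton
  have hc : ∀ x ∈ CohB1.support (Omega.sheaf f), IsClosed ({x} : Set X) := fun x hx => by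
    by_contra h
    exact hη (CurveCohLib.eq_genericPoint_of_not_isClosed hdX h ▸ hx)
  have key : ∀ x : X, IsClosed ({x} : Set X) →
      Module.length (X.presheaf.stalk x) ((Omega.sheaf f).presheaf.stalk x) = (ram f x - 1 : ℕ) ∧
        (letI := CurveCohLib.stalkModuleK k (Omega.sheaf f) x
         ∀ [Module.Finite k ((Omega.sheaf f).presheaf.stalk x)],
          Module.finrank k ((Omega.sheaf f).presheaf.stalk x) = ram f x - 1) := fun x hx => by
    haveI := CurveFF.isDVR k X hdX hx
    haveI := CurveFF.isDVR k Y hdY (isClosed_image X Y hdY f e hx)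
    exact finrank_stalk_omega f hf hx (isClosed_image X Y hdY f e hx) (htame x hx)
  have hsupp : CohB1.support (Omega.sheaf f) ⊆ (S : Set X) := fun x hx => by
    refine hS' x (hc x hx) fun h1 => hx ?_
    have h := (key x (hc x hx)).1
    rw [h1, Nat.sub_self, Nat.cast_zero] at h
    exact Module.length_eq_zero_iff.1 h
  obtain ⟨hsum, hfin⟩ := CurveCohLib.euler_eq_sum_stalks (k := k) hΩ hc S hsupp
  rw [← CurveCohLib.euler_eq_finrank_zero (k := k) hΩ hc, hsum]
  refine Finset.sum_congr rfl fun x hx => ?_
  haveI := hfin x hx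
  rw [(key x (hS x hx)).2]
  have : 1 ≤ ram f x := Nat.one_le_iff_ne_zero.2 fun h0 => htame x (hS x hx) (by rw [h0, Nat.cast_zero])
  omega

end Hurwitz

end Groth.Agent.CurveRamAC
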