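import Mathlib.RingTheory.Kaehler.Basic
import Mathlib.RingTheory.DiscreteValuationRing.Basic
import Mathlib.RingTheory.OrzechProperty
import Mathlib.RingTheory.Length
import Mathlib.RingTheory.Nakayama
import Mathlib.RingTheory.OrderOfVanishing.Basic

/-!
# Differentials of a map of discrete valuation rings with trivial residue extension
-/

set_option autoImplicit false
set_option linter.style.haveILetI false

universe u

open IsLocalRing KaehlerDifferential

noncomputable section

namespace Groth.Agent.CurveRamAC

variable {k R S : Type u} [Field k] [CommRing R] [CommRing S] [IsDomain R] [IsDomain S]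
  [IsDiscreteValuationRing R] [IsDiscreteValuationRing S] [Algebra k R] [Algebra k S]

/-- Differentials are spanned by that of a uniformiser, on the image of a ring with residue field `k`. -/
theorem span_D (hk : Function.Surjective fun c : k => residue R (algebraMap k R c))
    (φ : R →ₐ[k] S) [Module.Finite S Ω[S⁄k]] (t : R) (ht : maximalIdeal R = Ideal.span {t})
    (hφt : φ t ∈ maximalIdeal S) :
    Submodule.span S (Set.range fun y : R => D k S (φ y)) = Submodule.span S {D k S (φ t)} := by
  refine le_antisymm ?_ (Submodule.span_mono (by rintro _ rfl; exact ⟨t, rfl⟩))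
  haveI : IsNoetherian S Ω[S⁄k] := inferInstance
  refine Submodule.le_of_le_smul_of_le_jacobson_bot (I := maximalIdeal S) (IsNoetherian.noetherian _)
    (maximalIdeal_le_jacobson ⊥) ?_
  rw [Submodule.span_le]
  rintro _ ⟨y, rfl⟩
  obtain ⟨c, hc⟩ := hk (residue R y)
  obtain ⟨z, hz⟩ : ∃ z, z * t = y - algebraMap k R c := by
    refine Ideal.mem_span_singleton'.1 (ht ▸ (residue_eq_zero_iff _).1 ?_)
    rw [map_sub, sub_eq_zero]
    exact hc.symm
  have hy : D k S (φ y) = φ z • D k S (φ t) + φ t • D k S (φ z) := by
    rw [show y = z * t + algebraMap k R c by rw [hz, sub_add_cancel], map_add, map_add, AlgHom.commutes,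
      Derivation.map_algebraMap, add_zero, map_mul, Derivation.leibniz]
  show D k S (φ y) ∈ _
  rw [hy]
  refine Submodule.add_mem_sup (Submodule.smul_mem _ _ (Submodule.mem_span_singleton_self _))
    (Submodule.smul_mem_smul ?_ (Submodule.subset_span ⟨z, rfl⟩))
  exact hφt

variable [Algebra R S] [IsScalarTower k R S] [IsLocalHom (algebraMap R S)]

omit [Algebra k R] [Algebra k S] [IsScalarTower k R S] [IsDiscreteValuationRing R] [IsDomain R]
  [Algebra R S] [IsLocalHom (algebraMap R S)] in
theorem length_quot_pow (s : S) (hs : maximalIdeal S = Ideal.span {s}) (n : ℕ) :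
    Module.length S (S ⧸ Ideal.span {s ^ n}) = n := by
  induction n with
  | zero =>
    haveI : Subsingleton (S ⧸ Ideal.span {s ^ 0}) :=
      Ideal.Quotient.subsingleton_iff.2 (by rw [pow_zero, Ideal.span_singleton_one])
    rw [Module.length_eq_zero, Nat.cast_zero]
  | succ n ih =>
    have hs0 : s ≠ 0 := by
      rintro rfl
      exact IsDiscreteValuationRing.not_a_field S (by rw [hs, Ideal.span_singleton_eq_bot.2 rfl])
    have h := Ring.ord_mul S (a := s ^ n) (b := s) (mem_nonZeroDivisors_of_ne_zero hs0)
    unfold Ring.ord at h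
    rw [← pow_succ] at h
    rw [h, ih, ← hs, Module.length_eq_one_iff.2 (isSimpleModule_iff_isCoatom.2 (maximalIdeal.isMaximal S).out)]
    push_cast
    rfl

/-- The length of the relative differentials in the tame case. -/
theorem length_kaehler [Module.Free S Ω[S⁄k]] [Module.Finite S Ω[S⁄k]] (hrank : Module.finrank S Ω[S⁄k] = 1)
    (hR : Function.Surjective fun c : k => residue R (algebraMap k R c))
    (hS : Function.Surjective fun c : k => residue S (algebraMap k S c))
    (e : ℕ) (he : (maximalIdeal R).map (algebraMap R S) = maximalIdeal S ^ e) (he0 : (e : k) ≠ 0) :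
    Module.length S Ω[S⁄R] = (e - 1 : ℕ) := by
  obtain ⟨t, ht⟩ : ∃ t : R, maximalIdeal R = Ideal.span {t} := by
    obtain ⟨t, ht⟩ := IsDiscreteValuationRing.exists_irreducible R
    exact ⟨t, ht.maximalIdeal_eq⟩
  obtain ⟨s, hs⟩ : ∃ s : S, maximalIdeal S = Ideal.span {s} := by
    obtain ⟨s, hs⟩ := IsDiscreteValuationRing.exists_irreducible S
    exact ⟨s, hs.maximalIdeal_eq⟩
  have hgen := span_D hS (AlgHom.id k S) s hs (hs ▸ Ideal.mem_span_singleton_self s)
  have hgen' : Submodule.span S {D k S s} = ⊤ := hgen.symm.trans (span_range_derivation k S)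
  let l : S →ₗ[S] Ω[S⁄k] := LinearMap.toSpanSingleton S _ (D k S s)
  have hlsurj : Function.Surjective l := fun m => by
    obtain ⟨a, ha⟩ := Submodule.mem_span_singleton.1 (hgen'.ge (trivial : m ∈ (⊤ : Submodule S Ω[S⁄k])))
    exact ⟨a, ha⟩
  let e₁ : Ω[S⁄k] ≃ₗ[S] S := LinearEquiv.ofFinrankEq _ _ (hrank.trans (Module.finrank_self S).symm)
  have hlinj : Function.Injective l := fun a b hab =>
    OrzechProperty.injective_of_surjective_endomorphism (e₁.toLinearMap ∘ₗ l) (e₁.surjective.comp hlsurj)
      (congrArg e₁ hab)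
  obtain ⟨u, hu⟩ : ∃ u : Sˣ, algebraMap R S t = u * s ^ e := by
    rw [ht, hs, Ideal.map_span, Set.image_singleton, Ideal.span_singleton_pow, Ideal.span_singleton_eq_span_singleton] at he
    obtain ⟨u, hu⟩ := he
    exact ⟨u⁻¹, by rw [← hu, mul_comm (algebraMap R S t), ← mul_assoc, Units.inv_mul, one_mul]⟩
  have htS : algebraMap R S t ∈ maximalIdeal S :=
    map_nonunit (algebraMap R S) t (ht ▸ Ideal.mem_span_singleton_self t)
  obtain ⟨b, hb⟩ := hlsurj (D k S (u : S))
  have he1 : e ≠ 0 := by rintro rfl; exact he0 Nat.cast_zero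
  obtain ⟨m, rfl⟩ := Nat.exists_eq_succ_of_ne_zero he1
  let a : S := s ^ m * (((m + 1 : ℕ) : S) * u + s * b)
  have hDt : D k S (algebraMap R S t) = l a := by
    have hb' : D k S (u : S) = b • D k S s := hb.symm
    show _ = a • D k S s
    rw [hu, Derivation.leibniz, Derivation.leibniz_pow, hb', smul_smul, ← Nat.cast_smul_eq_nsmul S, smul_smul, smul_smul,
      ← add_smul]
    congr 1
    simp only [a, Nat.succ_eq_add_one, Nat.add_sub_cancel]
    push_cast
    ring
  have hunit : IsUnit (((m + 1 : ℕ) : S) * u + s * b) := by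
    have hmu : IsUnit (((m + 1 : ℕ) : S) * u) := by
      rw [← map_natCast (algebraMap k S)]
      exact ((IsUnit.mk0 _ he0).map _).mul u.isUnit
    by_contra h
    have h1 : ((m + 1 : ℕ) : S) * u + s * b ∈ maximalIdeal S := (mem_maximalIdeal _).2 h
    have h2 : s * b ∈ maximalIdeal S := Ideal.mul_mem_right _ _ (hs ▸ Ideal.mem_span_singleton_self s)
    exact (mem_maximalIdeal _).1 ((Ideal.add_mem_iff_left _ h2).1 h1) hmu
  -- the relative differentials as a quotient
  let π : S →ₗ[S] Ω[S⁄R] := KaehlerDifferential.map k R S S ∘ₗ l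
  have hπ : Function.Surjective π :=
    (show Function.Surjective (KaehlerDifferential.map k R S S) from map_surjective k R S).comp hlsurj
  have hker : LinearMap.ker π = Ideal.span {s ^ m} := by
    have hR' : LinearMap.range (mapBaseChange k R S) = Submodule.span S {D k S (algebraMap R S t)} := by
      refine Eq.trans ?_ (span_D hR (IsScalarTower.toAlgHom k R S) t ht htS)
      refine le_antisymm ?_ (Submodule.span_le.2 ?_)
      · rintro _ ⟨z, rfl⟩
        induction z with
        | zero => exact (map_zero (mapBaseChange k R S)).symm ▸ Submodule.zero_mem _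
        | add x y hx hy => exact (map_add (mapBaseChange k R S) x y).symm ▸ Submodule.add_mem _ hx hy
        | tmul c w =>
          rw [mapBaseChange_tmul]
          refine Submodule.smul_mem _ _ ?_
          have hw : w ∈ Submodule.span R (Set.range (D k R)) := (span_range_derivation k R).ge trivial
          induction hw using Submodule.span_induction with
          | mem _ h => obtain ⟨y, rfl⟩ := h; rw [map_D]; exact Submodule.subset_span ⟨y, rfl⟩
          | zero => rw [map_zero]; exact Submodule.zero_mem _
          | add _ _ _ _ ha hb => rw [map_add]; exact Submodule.add_mem _ ha hb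
          | smul r _ _ ha => rw [map_smul, ← algebraMap_smul S]; exact Submodule.smul_mem _ _ ha
      · rintro _ ⟨y, rfl⟩
        exact ⟨1 ⊗ₜ D k R y, by rw [mapBaseChange_tmul, one_smul, map_D]; rfl⟩
    have hex := (exact_mapBaseChange_map k R S).linearMap_ker_eq
    rw [LinearMap.ker_comp, hex, hR', hDt, show Ideal.span {s ^ m} = Submodule.span S {a} from
      (Ideal.span_singleton_mul_right_unit hunit _).symm]
    ext x
    simp only [Submodule.mem_comap, Submodule.mem_span_singleton]
    exact ⟨fun ⟨c, hc⟩ => ⟨c, hlinj (by rw [map_smul, hc])⟩, fun ⟨c, hc⟩ => ⟨c, by rw [← hc, map_smul]⟩⟩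
  rw [← (π.quotKerEquivOfSurjective hπ).length_eq, hker, length_quot_pow s hs]
  rfl

end Groth.Agent.CurveRamAC
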